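import Groth.Agent.ComodLib.LinRed
import Groth.Prelude.Def_CoactBr
import Mathlib.LinearAlgebra.Matrix.NonsingularInverse

/-! Class functions on an affine group: conjugation in matrix form. -/

set_option backward.isDefEq.respectTransparency false

noncomputable section

open TensorProduct HopfRep WithConv Matrix
open CategoryTheory MonoidalCategory CartesianMonoidalCategory AlgebraicGeometry Opposite MonObj

namespace ClassFunLib

universe u

attribute [-instance] CategoryTheory.Hom.commGroup

variable {k : Type u} [Field k] {A : Type u} [CommRing A] [HopfAlgebra k A]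

local notation "iL" => (Algebra.TensorProduct.includeLeft : A →ₐ[k] A ⊗[k] A)
local notation "iR" => (Algebra.TensorProduct.includeRight : A →ₐ[k] A ⊗[k] A)
local notation "Sₐ" => HopfAlgebra.antipodeAlgHom k A
local notation "Δₐ" => Bialgebra.comulAlgHom k A

/-- `f(x g x⁻¹)` on the universal pair of points. -/
def kappa : A →ₐ[k] A ⊗[k] A :=
  (Algebra.TensorProduct.lift
    ((Algebra.TensorProduct.lift iL iR fun _ _ => .all _ _).comp Δₐ) ((iL).comp Sₐ)
    fun _ _ => .all _ _).comp Δₐ

lemma pt_kappa : CoactBr.pt (kappa (k := k) (A := A)) =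
    CoactBr.pt iL * CoactBr.pt iR * (CoactBr.pt iL)⁻¹ := by
  rw [CoactBr.pt_inv, CoactBr.pt_mul_pt, CoactBr.pt_mul_pt]
  rfl

lemma appTop_pt {B : Type u} [CommRing B] [Algebra k B] (φ : A →ₐ[k] B) (f : A) :
    (CoactBr.pt φ).left.appTop ((Scheme.ΓSpecIso (CommRingCat.of A)).inv f) =
      (Scheme.ΓSpecIso (CommRingCat.of B)).inv (φ f) := by
  rw [CoactBr.pt_left]
  exact (ConcreteCategory.congr_hom
    (Scheme.ΓSpecIso_inv_naturality (CommRingCat.ofHom φ.toRingHom)) f).symm

/-- The class function condition on all points is one equation in `A ⊗ A`. -/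
lemma class_iff (f : A) :
    (∀ (T : Over (Spec (CommRingCat.of k))) (x g : T ⟶ CoactBr.sp k A),
        (x * g * x⁻¹).left.appTop ((Scheme.ΓSpecIso (CommRingCat.of A)).inv f) =
          g.left.appTop ((Scheme.ΓSpecIso (CommRingCat.of A)).inv f)) ↔
      kappa (k := k) f = iR f := by
  constructor
  · intro h
    have h1 := h (CoactBr.sp k (A ⊗[k] A)) (CoactBr.pt iL) (CoactBr.pt iR)
    rw [← pt_kappa, appTop_pt, appTop_pt] at h1
    exact (Scheme.ΓSpecIso (CommRingCat.of (A ⊗[k] A))).symm.commRingCatIsoToRingEquiv.injective h1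
  · intro h T x g
    let _ := braidedAlgSpec (R := CommRingCat.of k)
    let μF : CoactBr.sp k A ⊗ CoactBr.sp k A ⟶ CoactBr.sp k (A ⊗[k] A) :=
      Functor.LaxMonoidal.μ (algSpec (CommRingCat.of k)) (op (.of k A)) (op (.of k A))
    haveI : IsIso μF := Functor.Monoidal.instIsIsoμ _ _ _
    let ι₂ : CoactBr.sp k (A ⊗[k] A) ⟶ CoactBr.sp k A ⊗ CoactBr.sp k A :=
      lift (CoactBr.pt iL) (CoactBr.pt iR)
    have e1 : ι₂ ≫ μF = 𝟙 _ := by
      refine (CoactBr.lift_pt_pt iL iR).trans ?_
      rw [show Algebra.TensorProduct.lift iL iR (fun _ _ => .all _ _) = AlgHom.id k (A ⊗[k] A) from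
        Algebra.TensorProduct.ext' fun a b => by simp]
      exact CoactBr.pt_id
    have e2 : μF ≫ ι₂ = 𝟙 _ := by
      rw [IsIso.eq_inv_of_inv_hom_id e1]
      exact IsIso.hom_inv_id μF
    let v : T ⟶ CoactBr.sp k (A ⊗[k] A) := lift x g ≫ μF
    have hv : v ≫ ι₂ = lift x g := by
      simp only [v]
      rw [Category.assoc, e2, Category.comp_id]
    clear_value v
    have ex : v ≫ CoactBr.pt iL = x := by
      have := congrArg (fun z => z ≫ fst (CoactBr.sp k A) (CoactBr.sp k A)) hv
      simp only [ι₂, comp_lift, lift_fst] at this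
      exact this
    have eg : v ≫ CoactBr.pt iR = g := by
      have := congrArg (fun z => z ≫ snd (CoactBr.sp k A) (CoactBr.sp k A)) hv
      simp only [ι₂, comp_lift, lift_snd] at this
      exact this
    have ec : v ≫ CoactBr.pt (kappa (k := k)) = x * g * x⁻¹ := by
      rw [pt_kappa, MonObj.comp_mul, MonObj.comp_mul, GrpObj.comp_inv, ex, eg]
    rw [← ec, ← eg, Over.comp_left, Over.comp_left, Scheme.Hom.comp_appTop, Scheme.Hom.comp_appTop,
      CommRingCat.comp_apply, CommRingCat.comp_apply, appTop_pt, appTop_pt, h]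

variable {d : ℕ}

/-- A matrix of coefficients: comultiplicative, with counit the identity. -/
structure IsCoeffMat (a : Matrix (Fin d) (Fin d) A) : Prop where
  comul : ∀ i j, CoalgebraStruct.comul (R := k) (a i j) = ∑ l, a i l ⊗ₜ[k] a l j
  counit : ∀ i j, CoalgebraStruct.counit (R := k) (a i j) = if i = j then 1 else 0

variable {a : Matrix (Fin d) (Fin d) A}

lemma map_conv (ha : IsCoeffMat (k := k) a) {K : Type u} [CommRing K] [Algebra k K]
    (g h : A →ₐ[k] K) :
    a.map ((Algebra.TensorProduct.lift g h fun _ _ => .all _ _).comp Δₐ) = a.map g * a.map h := by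
  ext i j
  simp [Matrix.mul_apply, ha.comul]

lemma map_comul (ha : IsCoeffMat (k := k) a) : a.map Δₐ = a.map iL * a.map iR := by
  ext i j
  simp [Matrix.mul_apply, ha.comul]

lemma antipode_mul (ha : IsCoeffMat (k := k) a) : a.map Sₐ * a = 1 := by
  ext i j
  have := HopfAlgebra.mul_antipode_rTensor_comul_apply (R := k) (a i j)
  rw [ha.comul, map_sum, map_sum, ha.counit] at this
  simp only [Matrix.mul_apply, Matrix.map_apply, LinearMap.rTensor_tmul, LinearMap.mul'_apply] at this ⊢
  rw [show ∑ l, Sₐ (a i l) * a l j = ∑ l, HopfAlgebra.antipode k (a i l) * a l j from rfl, this]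
  rcases eq_or_ne i j with rfl | hij
  · simp
  · simp [hij, Matrix.one_apply_ne hij]

lemma mul_antipode (ha : IsCoeffMat (k := k) a) : a * a.map Sₐ = 1 :=
  mul_eq_one_comm.1 (antipode_mul ha)

lemma map_kappa (ha : IsCoeffMat (k := k) a) :
    a.map (kappa (k := k)) = a.map iL * a.map iR * (a.map Sₐ).map iL := by
  rw [kappa, map_conv ha, map_conv ha, Matrix.map_map]
  rfl

/-- Characters are class functions. -/
lemma kappa_trace (ha : IsCoeffMat (k := k) a) : kappa (k := k) (trace a) = iR (trace a) := by
  rw [AddMonoidHom.map_trace, AddMonoidHom.map_trace, map_kappa ha, trace_mul_comm,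
    ← Matrix.mul_assoc, ← Matrix.map_mul, antipode_mul ha,
    Matrix.map_one _ (map_zero _) (map_one _), Matrix.one_mul]

lemma sliceL_mid (α : A →ₗ[k] k) (x m y : A) :
    ComodLib.sliceL α (iR x * iL m * iR y) = x * (α m • 1) * y := by
  simp

/-- A class function in the span of the coefficients of `a` is `tr(T a)` with `T` commuting
with `a`. -/
lemma exists_commute {α : A →ₗ[k] k} (hα : ComodLib.IsInvariant α) (h1 : α 1 = 1)
    (ha : IsCoeffMat (k := k) a) (D : Matrix (Fin d) (Fin d) k)
    (hf : kappa (k := k) (trace (D.map (algebraMap k A) * a)) =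
      iR (trace (D.map (algebraMap k A) * a))) :
    ∃ T : Matrix (Fin d) (Fin d) k, a * T.map (algebraMap k A) = T.map (algebraMap k A) * a ∧
      trace (D.map (algebraMap k A) * a) = trace (T.map (algebraMap k A) * a) := by
  set D' := D.map (algebraMap k A)
  set M := a.map Sₐ * D' * a with hM
  refine ⟨M.map α, ?_, ?_⟩
  · have hR : (a.map Sₐ).map Δₐ = (a.map Sₐ).map iR * (a.map Sₐ).map iL := by
      have l1 : (a.map Sₐ).map Δₐ * a.map Δₐ = 1 := by
        rw [← Matrix.map_mul, antipode_mul ha, Matrix.map_one _ (map_zero _) (map_one _)]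
      have l2 : a.map Δₐ * ((a.map Sₐ).map iR * (a.map Sₐ).map iL) = 1 := by
        rw [map_comul ha, Matrix.mul_assoc, ← Matrix.mul_assoc (a.map iR), ← Matrix.map_mul,
          mul_antipode ha, Matrix.map_one _ (map_zero _) (map_one _), Matrix.one_mul,
          ← Matrix.map_mul, mul_antipode ha, Matrix.map_one _ (map_zero _) (map_one _)]
      exact left_inv_eq_right_inv l1 l2
    have hD : D'.map Δₐ = D'.map iL := by
      ext i j; simp [D']
    have hΔ : M.map Δₐ = (a.map Sₐ).map iR * M.map iL * a.map iR := by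
      simp only [hM, Matrix.map_mul, hR, hD, map_comul ha, Matrix.mul_assoc]
    have key : (M.map α).map (algebraMap k A) = a.map Sₐ * (M.map α).map (algebraMap k A) * a := by
      ext i j
      have h2 := congrArg (ComodLib.sliceL α) (congrFun (congrFun hΔ i) j)
      rw [Matrix.map_apply, show Δₐ (M i j) = CoalgebraStruct.comul (R := k) (M i j) from rfl,
        hα] at h2
      simp only [Matrix.mul_apply, Finset.sum_mul, map_sum, Matrix.map_apply, sliceL_mid] at h2 ⊢
      simpa [Algebra.algebraMap_eq_smul_one] using h2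
    have := congrArg (a * ·) key
    simp only [← Matrix.mul_assoc, mul_antipode ha, Matrix.one_mul] at this
    exact this
  · have hk : kappa (k := k) (trace (D' * a)) = trace (M.map iL * a.map iR) := by
      rw [AddMonoidHom.map_trace, Matrix.map_mul, map_kappa ha,
        show D'.map (kappa (k := k)) = D'.map iL by ext i j; simp [D'],
        ← Matrix.mul_assoc, trace_mul_comm, ← Matrix.mul_assoc, hM, Matrix.map_mul,
        Matrix.map_mul]
      simp only [Matrix.mul_assoc]
    have h2 := congrArg (ComodLib.sliceL α) (hk.symm.trans hf)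
    rw [show ComodLib.sliceL α (iR (trace (D' * a))) = trace (D' * a) by simp [h1]] at h2
    rw [← h2]
    simp [Matrix.trace, Matrix.mul_apply, map_sum, Algebra.algebraMap_eq_smul_one]

end ClassFunLib

end
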