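import Groth.Agent.ClassFunLib.Conj
import Mathlib.LinearAlgebra.Eigenspace.Triangularizable
import Mathlib.LinearAlgebra.Trace
import Mathlib.Algebra.DirectSum.LinearMap

/-! Characters span the class functions and simple characters are independent. -/

noncomputable section

open TensorProduct HopfRep WithConv Matrix ComodLib

namespace ClassFunLib

universe u w

variable {k : Type u} [Field k] {A : Type u} [CommRing A] [HopfAlgebra k A]

local notation "𝔸" => Dual' k A

/-- The character of a comodule structure on coordinate space, as in the statement. -/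
def char {d : ℕ} (c : Comod k A (Fin d → k)) : A :=
  ∑ i : Fin d, TensorProduct.lid k A (LinearMap.rTensor A (LinearMap.proj i)
    (c.coact (Pi.single i 1)))

/-- The matrix of coefficients. -/
def mat {d : ℕ} (c : Comod k A (Fin d → k)) : Matrix (Fin d) (Fin d) A :=
  Matrix.of fun i j => sliceL (LinearMap.proj i) (c.coact (Pi.single j 1))

lemma char_eq_trace {d : ℕ} (c : Comod k A (Fin d → k)) : char c = Matrix.trace (mat c) := rfl

lemma toMatrix_act {d : ℕ} (c : Comod k A (Fin d → k)) (f : A →ₗ[k] k) :
    LinearMap.toMatrix' (slice f ∘ₗ c.coact) = (mat c).map f := by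
  ext i j
  simp only [LinearMap.toMatrix'_apply, Matrix.map_apply, mat, Matrix.of_apply,
    LinearMap.comp_apply]
  rw [← apply_slice]
  rfl

lemma apply_char {d : ℕ} (c : Comod k A (Fin d → k)) (f : A →ₗ[k] k) :
    f (char c) = LinearMap.trace k (Fin d → k) (slice f ∘ₗ c.coact) := by
  rw [char_eq_trace, AddMonoidHom.map_trace, ← toMatrix_act,
    LinearMap.trace_eq_matrix_trace k (Pi.basisFun k (Fin d)), LinearMap.toMatrix_eq_toMatrix']

lemma sliceL_eq_sum {d : ℕ} (g : (Fin d → k) →ₗ[k] k) (x : (Fin d → k) ⊗[k] A) :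
    sliceL g x = ∑ l, g (Pi.single l 1) • sliceL (LinearMap.proj l) x := by
  induction x with
  | zero => simp
  | tmul v a =>
    simp only [sliceL_tmul, LinearMap.proj_apply, smul_smul, ← Finset.sum_smul]
    congr 1
    conv_lhs => rw [← Finset.univ_sum_single v, map_sum]
    refine Finset.sum_congr rfl fun l _ => ?_
    rw [show Pi.single l (v l) = v l • (Pi.single l 1 : Fin d → k) by rw [← Pi.single_smul]; simp,
      map_smul, smul_eq_mul, mul_comm]
  | add x y hx hy => simp only [map_add, hx, hy, smul_add, Finset.sum_add_distrib]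

lemma isCoeffMat {d : ℕ} (c : Comod k A (Fin d → k)) : IsCoeffMat (k := k) (mat c) := by
  let _ := c
  refine ⟨fun i j => ?_, fun i j => ?_⟩
  · have h := comul_sliceL (A := A) (LinearMap.proj i : (Fin d → k) →ₗ[k] k)
      (Comod.coact (k := k) (A := A) (Pi.single j (1 : k) : Fin d → k))
    rw [← coassoc_apply, sliceL_assoc, ← LinearMap.rTensor_comp_apply] at h
    refine h.trans ?_
    have e : Comod.coact (k := k) (A := A) (Pi.single j (1 : k) : Fin d → k) =
        ∑ l, (Pi.single l (1 : k) : Fin d → k) ⊗ₜ[k] mat c l j := by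
      refine ext_sliceL fun g => ?_
      rw [map_sum, Finset.sum_congr rfl fun l _ => sliceL_tmul g _ _]
      rw [sliceL_eq_sum g]
      rfl
    rw [e, map_sum]
    rfl
  · rw [mat, Matrix.of_apply, ← coeff_apply, counit_coeff]
    simp [Pi.single_apply]

/-- Every element is a coefficient of some finite-dimensional comodule. -/
lemma exists_mat (f : A) : ∃ (d : ℕ) (c : Comod k A (Fin d → k)) (D : Matrix (Fin d) (Fin d) k),
    f = Matrix.trace (D.map (algebraMap k A) * mat c) := by
  set E := Submodule.span 𝔸 ({f} : Set A)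
  have : FiniteDimensional k ↥(E.restrictScalars k) := finite_span_singleton A f
  have hS := isSubcomod_restrictScalars E
  let e : ↥(E.restrictScalars k) ≃ₗ[k] (Fin (Module.finrank k ↥(E.restrictScalars k)) → k) :=
    (Module.finBasis k ↥(E.restrictScalars k)).equivFun
  let v₀ : ↥(E.restrictScalars k) := ⟨f, Submodule.mem_span_singleton_self f⟩
  let c := ComodTens.Comod.ofEquiv e (subComod hS)
  let g := (CoalgebraStruct.counit (R := k) (A := A)) ∘ₗ (E.restrictScalars k).subtype ∘ₗ
    e.symm.toLinearMap
  refine ⟨_, c, Matrix.of fun i j => e v₀ i * g (Pi.single j 1), ?_⟩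
  have h1 : sliceL g (c.coact (e v₀)) = f := by
    rw [ComodTens.ofEquiv_coact_apply, sliceL_rTensor]
    rw [show g ∘ₗ (e : _ →ₗ[k] _) = (CoalgebraStruct.counit (R := k) (A := A)) ∘ₗ
      (E.restrictScalars k).subtype from LinearMap.ext fun x => by simp [g]]
    rw [← sliceL_rTensor, show (E.restrictScalars k).subtype.rTensor A ((subComod hS).coact v₀) =
      CoalgebraStruct.comul (R := k) (v₀ : A) from LinearMap.congr_fun (exists_coact_sub hS).choose_spec v₀]
    exact coeff_counit f
  have h2 : ∀ v, sliceL g (c.coact v) = ∑ i, ∑ j, (v i * g (Pi.single j 1)) • mat c j i := by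
    intro v
    have hv : v = ∑ i, v i • (Pi.single i 1 : Fin _ → k) := by
      funext l; simp [Finset.sum_apply, Pi.single_apply]
    conv_lhs => rw [hv, map_sum, map_sum]
    refine Finset.sum_congr rfl fun i _ => ?_
    rw [map_smul, map_smul]
    rw [sliceL_eq_sum g, Finset.smul_sum]
    exact Finset.sum_congr rfl fun j _ => smul_smul _ _ _
  rw [← h1, h2]
  simp [Matrix.trace, Matrix.mul_apply, Algebra.smul_def]

/-- A `Dual'`-stable subspace is a subcomodule whose character is the restricted trace. -/
lemma exists_char_restrict {d : ℕ} (c : Comod k A (Fin d → k)) (W : Submodule k (Fin d → k))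
    (hW : ∀ f : A →ₗ[k] k, Set.MapsTo (slice f ∘ₗ c.coact) W W) :
    ∃ (r : ℕ) (c' : Comod k A (Fin r → k)), ∀ f : A →ₗ[k] k,
      f (char c') = LinearMap.trace k W ((slice f ∘ₗ c.coact).restrict (hW f)) := by
  let _ := c
  have hS : IsSubcomod (k := k) (A := A) W := (isSubcomod_iff W).2 fun f v hv => hW f.ofConv hv
  let e : W ≃ₗ[k] (Fin (Module.finrank k W) → k) := (Module.finBasis k W).equivFun
  refine ⟨_, ComodTens.Comod.ofEquiv e (subComod hS), fun f => ?_⟩
  rw [apply_char, ← LinearMap.trace_conj' ((slice f ∘ₗ c.coact).restrict (hW f)) e]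
  congr 1
  refine LinearMap.ext fun x => ?_
  rw [LinearMap.comp_apply, ComodTens.ofEquiv_coact, slice_rTensor]
  show e _ = e _
  refine congrArg e (Subtype.ext ?_)
  exact subComod_smul_coe hS (toConv f) (e.symm x)

/-- An intertwiner weighted trace of coefficients is a combination of characters. -/
lemma trace_mem_span [IsAlgClosed k] {d : ℕ} (c : Comod k A (Fin d → k))
    (T : Matrix (Fin d) (Fin d) k)
    (hT : mat c * T.map (algebraMap k A) = T.map (algebraMap k A) * mat c) :
    Matrix.trace (T.map (algebraMap k A) * mat c) ∈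
      Submodule.span k (Set.range fun p : (Σ d : ℕ, Comod k A (Fin d → k)) => char p.2) := by
  classical
  set L : Module.End k (Fin d → k) := Matrix.toLin' T
  let act : (A →ₗ[k] k) → Module.End k (Fin d → k) := fun f => slice f ∘ₗ c.coact
  have hcomm : ∀ f, Commute L (act f) := by
    intro f
    apply LinearMap.toMatrix'.injective
    rw [Module.End.mul_eq_comp, Module.End.mul_eq_comp, LinearMap.toMatrix'_comp,
      LinearMap.toMatrix'_comp, LinearMap.toMatrix'_toLin', toMatrix_act]
    ext i j
    have := congrArg f (congrFun (congrFun hT.symm i) j)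
    simpa [Matrix.mul_apply, mul_comm _ (algebraMap k A _), ← Algebra.smul_def, mul_comm (f _)]
      using this
  have hds := DirectSum.isInternal_submodule_of_iSupIndep_of_iSup_eq_top
    L.independent_maxGenEigenspace L.iSup_maxGenEigenspace_eq_top
  have hfin : {μ | L.maxGenEigenspace μ ≠ ⊥}.Finite :=
    WellFoundedGT.finite_ne_bot_of_iSupIndep L.independent_maxGenEigenspace
  choose r c' hc' using fun μ => exists_char_restrict c (L.maxGenEigenspace μ)
    fun f => L.mapsTo_maxGenEigenspace_of_comm (hcomm f) μ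
  suffices h : Matrix.trace (T.map (algebraMap k A) * mat c) = ∑ μ ∈ hfin.toFinset, μ • char (c' μ) by
    rw [h]
    exact Submodule.sum_mem _ fun μ _ => Submodule.smul_mem _ _
      (Submodule.subset_span ⟨⟨_, c' μ⟩, rfl⟩)
  refine sub_eq_zero.1 ((Module.forall_dual_apply_eq_zero_iff k _).1 fun (f : A →ₗ[k] k) => ?_)
  rw [map_sub, sub_eq_zero]
  have hf : f (Matrix.trace (T.map (algebraMap k A) * mat c)) =
      LinearMap.trace k _ (act f ∘ₗ L) := by
    rw [LinearMap.trace_eq_matrix_trace k (Pi.basisFun k (Fin d)), LinearMap.toMatrix_eq_toMatrix',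
      LinearMap.toMatrix'_comp, LinearMap.toMatrix'_toLin', toMatrix_act, trace_mul_comm]
    simp only [Matrix.trace, Matrix.mul_apply, Matrix.diag_apply, Matrix.map_apply, map_sum]
    refine Finset.sum_congr rfl fun x _ => Finset.sum_congr rfl fun y _ => ?_
    rw [← Algebra.commutes, ← Algebra.smul_def, map_smul, smul_eq_mul, mul_comm]
  have hg : ∀ μ, Set.MapsTo (act f) (L.maxGenEigenspace μ) (L.maxGenEigenspace μ) := fun μ =>
    L.mapsTo_maxGenEigenspace_of_comm (hcomm f) μ
  have hL : ∀ μ, Set.MapsTo L (L.maxGenEigenspace μ) (L.maxGenEigenspace μ) := fun μ =>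
    L.mapsTo_maxGenEigenspace_of_comm (Commute.refl L) μ
  rw [hf, LinearMap.trace_eq_sum_trace_restrict' hds hfin (f := act f ∘ₗ L) fun μ => (hg μ).comp (hL μ), map_sum]
  refine Finset.sum_congr rfl fun μ _ => ?_
  rw [map_smul, hc', smul_eq_mul]
  refine Eq.trans ?_ (LinearMap.trace_comp_eq_mul_of_commute_of_isNilpotent μ
    (f := (act f).restrict (hg μ)) (g := L.restrict (hL μ)) ?_ ?_)
  · rfl
  · exact LinearMap.ext fun x => Subtype.ext (LinearMap.congr_fun (hcomm f).eq.symm x.1)
  · exact Module.End.isNilpotent_restrict_maxGenEigenspace_sub_algebraMap L μ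

section Indep

variable {ι : Type} [Fintype ι] [DecidableEq ι] {V : ι → Type w} [∀ i, AddCommGroup (V i)]
  [∀ i, Module k (V i)] [∀ i, Comod k A (V i)] [∀ i, FiniteDimensional k (V i)]

/-- Pairwise non-isomorphic simple comodules are separated by the convolution algebra. -/
lemma exists_separating (hs : ∀ i, IsSimpleComod k A (V i))
    (hne : ∀ i j, i ≠ j → IsEmpty (V i ≃ₗ[𝔸] V j)) (i₀ : ι) :
    ∃ r : 𝔸, (∀ v : V i₀, r • v = v) ∧ ∀ j, j ≠ i₀ → ∀ v : V j, r • v = 0 := by
  haveI : ∀ i, IsSimpleModule 𝔸 (V i) := fun i => isSimpleComod_iff.1 (hs i)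
  let E := Module.End 𝔸 (∀ i, V i)
  have key : ∀ (φ : E) (i j : ι), i ≠ j → ∀ x : V i, φ (Pi.single i x) j = 0 := by
    intro φ i j hij x
    let h : V i →ₗ[𝔸] V j := LinearMap.proj j ∘ₗ φ ∘ₗ LinearMap.single 𝔸 V i
    rcases LinearMap.bijective_or_eq_zero h with h' | h'
    · exact ((hne i j hij).false (LinearEquiv.ofBijective h h')).elim
    · exact LinearMap.congr_fun h' x
  let f0 : Module.End E (∀ i, V i) :=
    { toFun := fun m => Pi.single i₀ (m i₀)
      map_add' := fun a b => by simp [Pi.single_add]
      map_smul' := fun φ m => by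
        show Pi.single i₀ (φ m i₀) = φ (Pi.single i₀ (m i₀))
        funext j
        rcases eq_or_ne j i₀ with rfl | hj
        · rw [Pi.single_eq_same]
          conv_lhs => rw [← Finset.univ_sum_single m, map_sum, Finset.sum_apply]
          exact Finset.sum_eq_single_of_mem j (Finset.mem_univ _) fun l _ hl => key φ l j hl _
        · rw [Pi.single_eq_of_ne hj, key φ i₀ j hj.symm] }
  obtain ⟨s, hs'⟩ := (inferInstance : Module.Finite k (∀ i, V i)).fg_top
  obtain ⟨r, hr⟩ := jacobson_density f0 s
  have hall : ∀ m : ∀ i, V i, r • m = Pi.single i₀ (m i₀) := by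
    intro m
    have hm : m ∈ Submodule.span k (s : Set (∀ i, V i)) := hs'.ge trivial
    induction hm using Submodule.span_induction with
    | mem x hx => exact (hr x hx).symm
    | zero => simp
    | add a b _ _ ha hb => rw [smul_add, ha, hb, Pi.add_apply, Pi.single_add]
    | smul t a _ ha => rw [smul_comm, ha, Pi.smul_apply, Pi.single_smul]
  refine ⟨r, fun v => ?_, fun j hj v => ?_⟩
  · simpa using congrFun (hall (Pi.single i₀ v)) i₀
  · simpa [hj, hj.symm] using congrFun (hall (Pi.single j v)) j

end Indep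

/-- Characters of pairwise non-isomorphic simple comodules are independent. -/
lemma linearIndependent_char [CharZero k] {n : ℕ} (d : Fin n → ℕ)
    (c : (i : Fin n) → Comod k A (Fin (d i) → k))
    (hs : ∀ i, @IsSimpleComod k A _ _ _ _ (Fin (d i) → k) _ _ (c i))
    (hne : ∀ i j, i ≠ j → ∀ P : (Fin (d i) → k) ≃ₗ[k] (Fin (d j) → k),
      LinearMap.rTensor A P.toLinearMap ∘ₗ (c i).coact ≠ (c j).coact ∘ₗ P.toLinearMap) :
    LinearIndependent k (fun i => char (c i)) := by
  letI inst : ∀ i, Comod k A (Fin (d i) → k) := c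
  have hne' : ∀ i j, i ≠ j → IsEmpty ((Fin (d i) → k) ≃ₗ[𝔸] (Fin (d j) → k)) := by
    intro i j hij
    refine ⟨fun P => hne i j hij (P.restrictScalars k) (LinearMap.ext fun v => ext_slice fun f => ?_)⟩
    rw [LinearMap.comp_apply, LinearMap.comp_apply, slice_rTensor]
    exact P.map_smul (toConv f) v
  rw [Fintype.linearIndependent_iff]
  intro g hg i₀
  obtain ⟨r, hr1, hr0⟩ := exists_separating (V := fun i => Fin (d i) → k) hs hne' i₀
  have h := congrArg r.ofConv hg
  rw [map_sum, map_zero, Finset.sum_eq_single_of_mem i₀ (Finset.mem_univ _) fun j _ hj => by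
    rw [map_smul, apply_char, show slice r.ofConv ∘ₗ (c j).coact = 0 from
      LinearMap.ext fun v => hr0 j hj v, map_zero, smul_zero]] at h
  rw [map_smul, apply_char, show slice r.ofConv ∘ₗ (c i₀).coact = 1 from
    LinearMap.ext fun v => hr1 v, LinearMap.trace_one, smul_eq_mul] at h
  refine (mul_eq_zero.1 h).resolve_right ?_
  have : Nontrivial (Fin (d i₀) → k) := (hs i₀).1
  exact_mod_cast (Module.finrank_pos (R := k) (M := Fin (d i₀) → k)).ne'

/-- The class functions are exactly the combinations of characters. -/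
lemma class_iff_mem_span [IsAlgClosed k] (hred : IsLinearlyReductive k A) (f : A) :
    kappa (k := k) f = (Algebra.TensorProduct.includeRight : A →ₐ[k] A ⊗[k] A) f ↔
      f ∈ Submodule.span k (Set.range fun p : (Σ d : ℕ, Comod k A (Fin d → k)) => char p.2) := by
  constructor
  · intro h
    obtain ⟨α, hα, h1⟩ := exists_invariant_of_isLinearlyReductive hred
    obtain ⟨d, c, D, rfl⟩ := exists_mat (k := k) f
    obtain ⟨T, hT, hTf⟩ := exists_commute hα h1 (isCoeffMat c) D h
    rw [hTf]
    exact trace_mem_span c T hT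
  · intro h
    induction h using Submodule.span_induction with
    | mem x hx =>
      obtain ⟨⟨d, c⟩, rfl⟩ := hx
      exact kappa_trace (isCoeffMat c)
    | zero => simp
    | add a b _ _ ha hb => rw [map_add, map_add, ha, hb]
    | smul t a _ ha => rw [map_smul, map_smul, ha]

end ClassFunLib

end
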